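import Groth.Agent.AutFib57.Descends
import Groth.Agent.Curves2.BirationalPush
import Mathlib.AlgebraicGeometry.Morphisms.SchemeTheoreticallyDominant

/-!
Lifting closed subgroups of the automorphisms along a birational morphism.
-/

set_option autoImplicit false
set_option backward.isDefEq.respectTransparency.types false
set_option linter.style.haveILetI false
universe u

open CategoryTheory CategoryTheory.Limits MonoidalCategory CartesianMonoidalCategory MonObj GrpObj AlgebraicGeometry

namespace Groth.Agent.AutFib57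

variable {k : Type u} [Field k]

/-- Morphisms to a separated scheme which agree on a scheme-theoretically dense subscheme agree. -/
theorem eq_of_dominant {A B Z : Over (Spec (CommRingCat.of k))} [IsSeparated Z.hom] (j : A ⟶ B)
    [IsSchemeTheoreticallyDominant j.left] {a b : B ⟶ Z} (h : j ≫ a = j ≫ b) : a = b := by
  let c := (equalizer.ι a b).left
  have : IsClosedImmersion c := inferInstanceAs (IsClosedImmersion (equalizer.ι a b).left)
  have hj : (equalizer.lift j h).left ≫ c = j.left := congrArg Over.Hom.left (equalizer.lift_ι j h)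
  have hc : c.ker = ⊥ := le_bot_iff.1 (((Scheme.Hom.le_ker_comp (equalizer.lift j h).left c)).trans
    (by rw [hj, j.left.ker_eq_bot]))
  have : IsIso c := IsClosedImmersion.isIso_of_ker_eq c (𝟙 _) c (Category.comp_id c)
    (by rw [hc, Scheme.Hom.ker_eq_bot])
  apply Over.OverMorphism.ext
  rw [← cancel_epi c]
  exact congrArg Over.Hom.left (equalizer.condition a b)

variable {X Y : Over (Spec (CommRingCat.of k))}

theorem endOf_comm {T : Over (Spec (CommRingCat.of k))} (f : X ⟶ Y) {φ : X ⊗ T ⟶ X} {ψ : Y ⊗ T ⟶ Y}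
    (h : φ ≫ f = (f ▷ T) ≫ ψ) : AutSch.endOf φ ≫ (f ▷ T) = (f ▷ T) ≫ AutSch.endOf ψ := by
  refine CartesianMonoidalCategory.hom_ext _ _ ?_ ?_ <;> simp [h]

/-- Over an open where a morphism is an isomorphism, a morphism to the source is determined by its composite. -/
theorem ext_over (f : X ⟶ Y) (U : Y.left.Opens) [IsIso (f.left ∣_ U)] {A : Over (Spec (CommRingCat.of k))}
    (a b : A ⟶ X) (ha : ∀ z, f.left (a.left z) ∈ U) (hb : ∀ z, f.left (b.left z) ∈ U) (e : a ≫ f = b ≫ f) : a = b := by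
  apply Over.OverMorphism.ext
  have hra : Set.range a.left ⊆ Set.range (f.left ⁻¹ᵁ U).ι := by
    rw [Scheme.Opens.range_ι]
    rintro _ ⟨z, rfl⟩
    exact ha z
  have hrb : Set.range b.left ⊆ Set.range (f.left ⁻¹ᵁ U).ι := by
    rw [Scheme.Opens.range_ι]
    rintro _ ⟨z, rfl⟩
    exact hb z
  rw [← IsOpenImmersion.lift_fac (f.left ⁻¹ᵁ U).ι _ hra, ← IsOpenImmersion.lift_fac (f.left ⁻¹ᵁ U).ι _ hrb]
  refine congrArg (· ≫ (f.left ⁻¹ᵁ U).ι) ?_
  rw [← cancel_mono (f.left ∣_ U), ← cancel_mono U.ι]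
  simp only [Category.assoc, morphismRestrict_ι, IsOpenImmersion.lift_fac_assoc]
  exact congrArg Over.Hom.left e

/-- A lift to the source of a family of automorphisms of the target is unique. -/
theorem famOf_lift_unique [IsIntegral X.left] [IsProper X.hom] (f : X ⟶ Y) (U : Y.left.Opens)
    [IsIso (f.left ∣_ U)] (hU : (U : Set Y.left).Nonempty)
    {T : Over (Spec (CommRingCat.of k))} {φ φ' : X ⊗ T ⟶ X}
    {ψ : Y ⊗ T ⟶ Y} (hφ : AutSch.IsAutFamily φ) (h : φ ≫ f = (f ▷ T) ≫ ψ) (h' : φ' ≫ f = (f ▷ T) ≫ ψ) :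
    φ = φ' := by
  let W : (X ⊗ T).left.Opens := (φ ≫ f).left ⁻¹ᵁ U
  let jW : Over.mk (W.ι ≫ (X ⊗ T).hom) ⟶ X ⊗ T := Over.homMk W.ι rfl
  have hW : jW ≫ φ = jW ≫ φ' := by
    refine ext_over f U _ _ (fun z => ?_) (fun z => ?_) (by rw [Category.assoc, Category.assoc, h, h'])
    · exact z.2
    · show (φ' ≫ f).left z.1 ∈ U
      rw [h', ← h]
      exact z.2
  let V₀ : X.left.Opens := f.left ⁻¹ᵁ U
  have : Nonempty V₀ := by
    obtain ⟨y, hy⟩ := hU
    obtain ⟨v, -⟩ := (f.left ∣_ U).homeomorph.surjective ⟨y, hy⟩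
    exact ⟨v⟩
  have : IsLocallyNoetherian X.left := LocallyOfFiniteType.isLocallyNoetherian X.hom
  have : QuasiCompact V₀.ι := inferInstance
  have : IsDominant V₀.ι := by
    rw [isDominant_iff, DenseRange, Scheme.Opens.range_ι]
    exact V₀.2.dense (Set.nonempty_coe_sort.1 ‹Nonempty V₀›)
  have : IsSchemeTheoreticallyDominant V₀.ι := .of_isDominant _
  have : Subsingleton (Spec (CommRingCat.of k)) := inferInstanceAs (Subsingleton (PrimeSpectrum k))
  have : Flat (fst X T).left := inferInstanceAs (Flat (pullback.fst X.hom T.hom))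
  let W₀ : (X ⊗ T).left.Opens := (fst X T).left ⁻¹ᵁ V₀
  have : IsSchemeTheoreticallyDominant W₀.ι :=
    .of_isPullback (isPullback_morphismRestrict (fst X T).left V₀)
  have : IsIso (AutSch.endOf φ) := hφ
  let e := (AutSch.endOf φ).left
  have : IsIso e := inferInstanceAs (IsIso ((Over.forget _).map (AutSch.endOf φ)))
  have hWW : W = e ⁻¹ᵁ W₀ := by
    ext z
    show (φ ≫ f).left z ∈ U ↔ f.left ((fst X T).left (e z)) ∈ U
    have he : (fst X T).left (e z) = φ.left z := congrArg (fun m : X ⊗ T ⟶ X => m.left z) (AutSch.endOf_fst φ)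
    rw [he]
    exact Iff.rfl
  have hd : IsSchemeTheoreticallyDominant (e ⁻¹ᵁ W₀).ι := by
    have h1 : (e ⁻¹ᵁ W₀).ι = (e ∣_ W₀) ≫ W₀.ι ≫ inv e := by
      rw [morphismRestrict_ι_assoc, IsIso.hom_inv_id, Category.comp_id]
    rw [h1]
    infer_instance
  have : IsSchemeTheoreticallyDominant jW.left := by
    show IsSchemeTheoreticallyDominant W.ι
    rw [hWW]
    exact hd
  exact eq_of_dominant jW hW

end Groth.Agent.AutFib57
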