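import Groth.Agent.Var76.FibBC
import Mathlib.AlgebraicGeometry.AffineScheme
import Mathlib.AlgebraicGeometry.Gluing

/-!
Descent of morphisms along a surjective closed morphism `p` with `p_* O = O`.
-/

set_option autoImplicit false
set_option backward.isDefEq.respectTransparency.types false
universe u

open CategoryTheory CategoryTheory.Limits AlgebraicGeometry TopologicalSpace Opposite

namespace Groth.Agent.AutFib57

variable {X Y Z : Scheme.{u}}

/-- A morphism which is the identity on global functions is epi for affine targets. -/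
theorem ext_affine [IsAffine Z] (p : X ⟶ Y) (h : IsIso p.appTop) {g g' : Y ⟶ Z} (e : p ≫ g = p ≫ g') : g = g' := by
  apply ext_of_isAffine
  rw [← cancel_mono p.appTop, ← Scheme.Hom.comp_appTop, ← Scheme.Hom.comp_appTop, e]

/-- Morphisms to affine targets descend along a morphism which is the identity on global functions. -/
theorem exists_affine [IsAffine Z] (p : X ⟶ Y) (h : IsIso p.appTop) (a : X ⟶ Z) : ∃ g : Y ⟶ Z, p ≫ g = a := by
  refine ⟨Y.toSpecΓ ≫ Spec.map (a.appTop ≫ inv p.appTop) ≫ Z.isoSpec.inv, ?_⟩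
  apply ext_of_isAffine
  have hi : Z.isoSpec.inv.appTop = (Scheme.ΓSpecIso Γ(Z, ⊤)).inv := by
    rw [← Iso.comp_hom_eq_id (Scheme.ΓSpecIso Γ(Z, ⊤)), ← Scheme.toSpecΓ_appTop, ← Scheme.Hom.comp_appTop]
    show (Z.isoSpec.hom ≫ Z.isoSpec.inv).appTop = _
    rw [Iso.hom_inv_id]; rfl
  simp only [Scheme.Hom.comp_appTop, hi, Category.assoc]
  rw [← Scheme.ΓSpecIso_inv_naturality_assoc, Scheme.toSpecΓ_appTop, Iso.inv_hom_id_assoc, Category.assoc,
    IsIso.inv_hom_id, Category.comp_id]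

theorem isIso_appTop_morphismRestrict (p : X ⟶ Y) (h : ∀ U : Y.Opens, IsIso (p.app U)) (U : Y.Opens) :
    IsIso (p ∣_ U).appTop := by
  have := h (U.ι ''ᵁ ⊤)
  rw [morphismRestrict_appTop]
  exact IsIso.comp_isIso' (h _) (Functor.map_isIso _ _)

variable (p : X ⟶ Y) (hp : ∀ U : Y.Opens, IsIso (p.app U))

include hp in
/-- A surjective morphism with `p_* O = O` is an epimorphism of schemes. -/
theorem hom_ext [Surjective p] {g g' : Y ⟶ Z} (e : p ≫ g = p ≫ g') : g = g' := by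
  have hpt : ∀ y, g y = g' y := fun y => by
    obtain ⟨x, rfl⟩ := p.surjective y
    rw [← Scheme.Hom.comp_apply, e, Scheme.Hom.comp_apply]
  refine Scheme.Cover.hom_ext
    (Scheme.openCoverOfIsOpenCover Y (fun V : Z.affineOpens => g ⁻¹ᵁ V.1) ?_) _ _ fun V => ?_
  · exact IsOpenCover.comap (f := ⟨g, g.continuous⟩) (iSup_affineOpens_eq_top Z)
  let W : Y.Opens := g ⁻¹ᵁ V.1
  show W.ι ≫ g = W.ι ≫ g'
  have hr : Set.range (W.ι ≫ g) ⊆ Set.range V.1.ι := by
    rw [Scheme.Opens.range_ι]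
    rintro _ ⟨z, rfl⟩
    exact z.2
  have hr' : Set.range (W.ι ≫ g') ⊆ Set.range V.1.ι := by
    rw [Scheme.Opens.range_ι]
    rintro _ ⟨z, rfl⟩
    rw [Scheme.Hom.comp_apply, ← hpt]
    exact z.2
  rw [← IsOpenImmersion.lift_fac V.1.ι _ hr, ← IsOpenImmersion.lift_fac V.1.ι _ hr']
  have : IsAffine (V.1 : Scheme.{u}) := V.2
  refine congrArg (· ≫ V.1.ι) (ext_affine (p ∣_ W) (isIso_appTop_morphismRestrict p hp W) ?_)
  rw [← cancel_mono V.1.ι]
  simp only [Category.assoc, IsOpenImmersion.lift_fac]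
  rw [morphismRestrict_ι_assoc, morphismRestrict_ι_assoc, e]

include hp in
/-- Morphisms descend along a quasi-compact, quasi-separated, surjective closed morphism with `p_* O = O` when they
are constant on the fibres. -/
theorem exists_desc [Surjective p] [QuasiCompact p] [QuasiSeparated p] (hc : IsClosedMap p) (a : X ⟶ Z)
    (hconst : ∀ x x', p x = p x' → a x = a x') : ∃ g : Y ⟶ Z, p ≫ g = a := by
  let W : Z.affineOpens → Y.Opens := fun V =>
    ⟨(p '' (a ⁻¹ᵁ V.1 : Set X)ᶜ)ᶜ, (hc _ (a ⁻¹ᵁ V.1).2.isClosed_compl).isOpen_compl⟩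
  have hW : ∀ V x, p x ∈ W V ↔ a x ∈ V.1 := by
    intro V x
    constructor
    · intro h
      by_contra hn
      exact h ⟨x, hn, rfl⟩
    · rintro h ⟨x', hx', e⟩
      exact hx' (show a x' ∈ V.1 from (hconst x' x e) ▸ h)
  have hWpre : ∀ V, Set.range ((p ⁻¹ᵁ W V).ι ≫ a) ⊆ Set.range V.1.ι := by
    intro V
    rw [Scheme.Opens.range_ι]
    rintro _ ⟨z, rfl⟩
    exact (hW V z.1).1 z.2
  have hex : ∀ V : Z.affineOpens, ∃ g : (W V : Scheme.{u}) ⟶ Z, (p ∣_ W V) ≫ g = (p ⁻¹ᵁ W V).ι ≫ a := by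
    intro V
    have : IsAffine (V.1 : Scheme.{u}) := V.2
    obtain ⟨g, hg⟩ := exists_affine (p ∣_ W V) (isIso_appTop_morphismRestrict p hp (W V))
      (IsOpenImmersion.lift V.1.ι _ (hWpre V))
    exact ⟨g ≫ V.1.ι, by rw [← Category.assoc, hg, IsOpenImmersion.lift_fac]⟩
  choose g hg using hex
  let 𝒰 := Scheme.openCoverOfIsOpenCover Y W (by
    refine IsOpenCover.mk (eq_top_iff.2 fun y _ => ?_)
    obtain ⟨x, rfl⟩ := p.surjective y
    obtain ⟨V, hV⟩ := Opens.mem_iSup.1 (show a x ∈ ⨆ V : Z.affineOpens, V.1 by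
      rw [iSup_affineOpens_eq_top Z]; trivial)
    exact Opens.mem_iSup.2 ⟨V, (hW V x).2 hV⟩)
  have hcompat : ∀ i j, pullback.fst (𝒰.f i) (𝒰.f j) ≫ g i = pullback.snd (𝒰.f i) (𝒰.f j) ≫ g j := by
    intro (i : Z.affineOpens) (j : Z.affineOpens)
    show pullback.fst (W i).ι (W j).ι ≫ g i = pullback.snd (W i).ι (W j).ι ≫ g j
    let o := pullback.fst (W i).ι (W j).ι ≫ (W i).ι
    let p' := pullback.snd p o
    let a₁ := pullback.fst p o
    have : Surjective p' := inferInstance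
    refine hom_ext p' (Var76.FibBC.isIso_app_baseChange p (IsPullback.of_hasPullback p o) hp) ?_
    let l₁ : pullback p o ⟶ (p ⁻¹ᵁ W i : Scheme.{u}) := (isPullback_morphismRestrict p (W i)).lift
      (p' ≫ pullback.fst _ _) a₁ (by rw [Category.assoc]; exact pullback.condition.symm)
    let l₂ : pullback p o ⟶ (p ⁻¹ᵁ W j : Scheme.{u}) := (isPullback_morphismRestrict p (W j)).lift
      (p' ≫ pullback.snd _ _) a₁ (by rw [Category.assoc, ← pullback.condition]; exact pullback.condition.symm)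
    have e₁ : l₁ ≫ (p ∣_ W i) = p' ≫ pullback.fst _ _ := IsPullback.lift_fst _ _ _ _
    have e₂ : l₂ ≫ (p ∣_ W j) = p' ≫ pullback.snd _ _ := IsPullback.lift_fst _ _ _ _
    have f₁ : l₁ ≫ (p ⁻¹ᵁ W i).ι = a₁ := IsPullback.lift_snd _ _ _ _
    have f₂ : l₂ ≫ (p ⁻¹ᵁ W j).ι = a₁ := IsPullback.lift_snd _ _ _ _
    rw [← Category.assoc, ← Category.assoc, ← e₁, ← e₂, Category.assoc, Category.assoc, hg, hg, ← Category.assoc,
      ← Category.assoc, f₁, f₂]
  refine ⟨𝒰.glueMorphisms g hcompat, ?_⟩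
  refine Scheme.Cover.hom_ext (𝒰.pullback₁ p) _ _ fun (i : Z.affineOpens) => ?_
  show pullback.fst p (W i).ι ≫ p ≫ _ = pullback.fst p (W i).ι ≫ a
  have hι : (W i).ι ≫ 𝒰.glueMorphisms g hcompat = g i := Scheme.Cover.ι_glueMorphisms 𝒰 g hcompat i
  rw [pullback.condition_assoc, hι]
  let l : pullback p (W i).ι ⟶ (p ⁻¹ᵁ W i : Scheme.{u}) := (isPullback_morphismRestrict p (W i)).lift
    (pullback.snd _ _) (pullback.fst _ _) pullback.condition.symm
  have e₁ : l ≫ (p ∣_ W i) = pullback.snd _ _ := IsPullback.lift_fst _ _ _ _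
  have f₁ : l ≫ (p ⁻¹ᵁ W i).ι = pullback.fst _ _ := IsPullback.lift_snd _ _ _ _
  rw [← e₁, Category.assoc, hg, ← Category.assoc, f₁]

end Groth.Agent.AutFib57
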