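import Groth.Agent.Weil57.Closed
import Mathlib.AlgebraicGeometry.Morphisms.Separated
import Mathlib.CategoryTheory.Monoidal.Cartesian.Over

/-!
The closed locus in the parameter scheme where two morphisms agree, over a field.
-/

set_option autoImplicit false
set_option backward.isDefEq.respectTransparency.types false
set_option linter.style.haveILetI false
universe u

open CategoryTheory CategoryTheory.Limits MonoidalCategory CartesianMonoidalCategory AlgebraicGeometry

namespace Groth.Agent.AutFib57

theorem isFreeOnAffines_field (k : Type u) [Field k] {Y : Scheme.{u}} (q : Y ⟶ Spec (CommRingCat.of k)) :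
    Weil57.IsFreeOnAffines q := by
  intro U
  letI := Weil57.baseAlg q U.1
  letI : Field Γ(Spec (CommRingCat.of k), ⊤) :=
    ((Scheme.ΓSpecIso (CommRingCat.of k)).commRingCatIsoToRingEquiv.toMulEquiv.isField
      (Field.toIsField k)).toField
  exact Module.Free.of_divisionRing _ _

variable {k : Type u} [Field k] {G R Y : Over (Spec (CommRingCat.of k))}

/-- Over a field, the locus of the parameters where two morphisms to a separated scheme agree is closed. -/
theorem exists_agreeLocus [IsSeparated Y.hom] (a b : G ⊗ R ⟶ Y) :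
    ∃ (Z : Over (Spec (CommRingCat.of k))) (z : Z ⟶ G), IsClosedImmersion z.left ∧
      ∀ (T : Over (Spec (CommRingCat.of k))) (t : T ⟶ G), (∃ u, u ≫ z = t) ↔ (t ▷ R) ≫ a = (t ▷ R) ≫ b := by
  let c : (equalizer a b).left ⟶ pullback G.hom R.hom := (equalizer.ι a b).left
  have : IsClosedImmersion c := inferInstanceAs (IsClosedImmersion (equalizer.ι a b).left)
  obtain ⟨Z, z, hz, hmem⟩ := Weil57.exists_weilRestriction G.hom R.hom c (isFreeOnAffines_field k R.hom)
  refine ⟨Over.mk (z ≫ G.hom), Over.homMk z rfl, hz, fun T t => ?_⟩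
  let g : pullback (t.left ≫ G.hom) R.hom ⟶ pullback G.hom R.hom :=
    pullback.map _ _ _ _ t.left (𝟙 _) (𝟙 _) (Category.comp_id _) (by simp)
  have hg := hmem t.left g (pullback.lift_fst _ _ _) ((pullback.lift_snd _ _ _).trans (Category.comp_id _))
  let e : pullback (t.left ≫ G.hom) R.hom ≅ (T ⊗ R).left := pullback.congrHom (Over.w t) rfl
  have he : e.hom ≫ (t ▷ R).left = g := by
    refine pullback.hom_ext ?_ ?_
    · have h1 : (t ▷ R).left ≫ pullback.fst G.hom R.hom = pullback.fst T.hom R.hom ≫ t.left :=
        congrArg Over.Hom.left (whiskerRight_fst t R)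
      rw [Category.assoc, h1]
      simp only [g, e, pullback.congrHom_hom, pullback.map]
      erw [pullback.lift_fst_assoc, pullback.lift_fst]
      simp
    · have h1 : (t ▷ R).left ≫ pullback.snd G.hom R.hom = pullback.snd T.hom R.hom :=
        congrArg Over.Hom.left (whiskerRight_snd t R)
      rw [Category.assoc, h1]
      simp only [g, e, pullback.congrHom_hom, pullback.map]
      erw [pullback.lift_snd, pullback.lift_snd]
  constructor
  · rintro ⟨u, rfl⟩
    obtain ⟨v, hv⟩ := hg.1 ⟨u.left, rfl⟩
    let v' : T ⊗ R ⟶ equalizer a b := Over.homMk (e.inv ≫ v) (by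
      rw [Category.assoc, ← Over.w (equalizer.ι a b), ← Category.assoc v]
      show e.inv ≫ (v ≫ c) ≫ _ = _
      rw [hv, ← he, Category.assoc, Iso.inv_hom_id_assoc]
      exact Over.w _)
    have hv' : v' ≫ equalizer.ι a b = (u ≫ Over.homMk z rfl) ▷ R := by
      apply Over.OverMorphism.ext
      show (e.inv ≫ v) ≫ c = _
      rw [Category.assoc, hv, ← he, Iso.inv_hom_id_assoc]
    rw [← hv', Category.assoc, Category.assoc, equalizer.condition]
  · intro h
    obtain ⟨u, hu⟩ := hg.2 ⟨e.hom ≫ (equalizer.lift (t ▷ R) h).left, by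
      show (e.hom ≫ _) ≫ (equalizer.ι a b).left = g
      rw [Category.assoc, ← Over.comp_left, equalizer.lift_ι, he]⟩
    refine ⟨Over.homMk u ?_, ?_⟩
    · show u ≫ z ≫ G.hom = T.hom
      rw [← Category.assoc, hu, Over.w t]
    · ext1
      exact hu

end Groth.Agent.AutFib57
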