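import Groth.Agent.AutFib57.Desc
import Groth.Agent.AutFib57.Locus
import Groth.Agent.GIT36.Quot.Pts
import Groth.Prelude.Def_AutSch

/-!
The closed subscheme of the automorphism group scheme cut out by descending along a fibration.
-/

set_option autoImplicit false
set_option backward.isDefEq.respectTransparency.types false
set_option linter.style.haveILetI false
universe u

open CategoryTheory CategoryTheory.Limits MonoidalCategory CartesianMonoidalCategory MonObj GrpObj AlgebraicGeometry

namespace Groth.Agent.AutFib57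

section Families

variable {S : Scheme.{u}} {X G : Over S} [GrpObj G] (a : AlgGrp.Action G X)

/-- The composite of two families of an action is the family of the product. -/
theorem endOf_famOf_comp {T : Over S} (g g' : T ⟶ G) :
    AutSch.endOf (AutSch.famOf a g) ≫ AutSch.endOf (AutSch.famOf a g') = AutSch.endOf (AutSch.famOf a (g' * g)) := by
  refine CartesianMonoidalCategory.hom_ext _ _ ?_ ?_
  · have h := congrArg (lift (lift (snd X T ≫ g') (snd X T ≫ g)) (fst X T) ≫ ·) a.mul_act
    simp only [comp_lift_assoc, lift_whiskerRight_assoc, lift_lift_associator_hom_assoc, lift_whiskerLeft_assoc] at h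
    simp only [Category.assoc, AutSch.endOf_fst, AutSch.famOf]
    rw [comp_lift_assoc, Hom.mul_def, comp_lift_assoc, h]
    simp
  · simp

theorem endOf_famOf_one {T : Over S} : AutSch.endOf (AutSch.famOf a (1 : T ⟶ G)) = 𝟙 _ := by
  refine CartesianMonoidalCategory.hom_ext _ _ ?_ ?_
  · have h := congrArg (lift (toUnit (X ⊗ T)) (fst X T) ≫ ·) a.one_act
    simp only [lift_whiskerRight_assoc, lift_leftUnitor_hom] at h
    simp only [AutSch.endOf_fst, AutSch.famOf, Category.id_comp, Hom.one_def]
    rw [← Category.assoc, toUnit_unique (snd X T ≫ toUnit T) (toUnit (X ⊗ T)), h]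
  · simp

theorem isIso_endOf_famOf {T : Over S} (g : T ⟶ G) : IsIso (AutSch.endOf (AutSch.famOf a g)) :=
  ⟨AutSch.endOf (AutSch.famOf a g⁻¹), by rw [endOf_famOf_comp, inv_mul_cancel, endOf_famOf_one],
    by rw [endOf_famOf_comp, mul_inv_cancel, endOf_famOf_one]⟩

end Families

variable {k : Type u} [Field k] {X Y : Over (Spec (CommRingCat.of k))} (f : X ⟶ Y)

/-- `X ×_Y X` over the field. -/
noncomputable abbrev relSquare : Over (Spec (CommRingCat.of k)) := Over.mk (pullback.fst f.left f.left ≫ X.hom)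

/-- The first projection of `X ×_Y X`. -/
noncomputable abbrev relFst : relSquare f ⟶ X := Over.homMk (pullback.fst f.left f.left) rfl

/-- The second projection of `X ×_Y X`. -/
noncomputable abbrev relSnd : relSquare f ⟶ X := Over.homMk (pullback.snd f.left f.left) (by
  show pullback.snd f.left f.left ≫ X.hom = pullback.fst f.left f.left ≫ X.hom
  rw [← Over.w f, ← Category.assoc, ← pullback.condition, Category.assoc])

theorem relFst_comp : relFst f ≫ f = relSnd f ≫ f := by
  apply Over.OverMorphism.ext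
  exact pullback.condition

/-- A family is constant along the fibres. -/
def Compat {T : Over (Spec (CommRingCat.of k))} (φ : X ⊗ T ⟶ X) : Prop :=
  (relFst f ▷ T) ≫ φ ≫ f = (relSnd f ▷ T) ≫ φ ≫ f

theorem compat_of_descends {T : Over (Spec (CommRingCat.of k))} {φ : X ⊗ T ⟶ X} {ψ : Y ⊗ T ⟶ Y}
    (h : AutSch.endOf φ ≫ (f ▷ T) = (f ▷ T) ≫ AutSch.endOf ψ) : Compat f φ := by
  have h' : φ ≫ f = (f ▷ T) ≫ ψ := by
    have := congrArg (· ≫ fst Y T) h
    simpa using this
  show _ = _
  rw [h', ← comp_whiskerRight_assoc, ← comp_whiskerRight_assoc, relFst_comp]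

variable (hf : ∀ U : Y.left.Opens, IsIso (f.left.app U))

include hf in
theorem isIso_app_whiskerRight [QuasiCompact f.left] [QuasiSeparated f.left] (T : Over (Spec (CommRingCat.of k)))
    (U : (Y ⊗ T).left.Opens) : IsIso ((f ▷ T).left.app U) := by
  have : Subsingleton (Spec (CommRingCat.of k)) := inferInstanceAs (Subsingleton (PrimeSpectrum k))
  have : Flat T.hom := inferInstance
  have : Flat (fst Y T).left := inferInstanceAs (Flat (pullback.fst Y.hom T.hom))
  exact Var76.FibBC.isIso_app_baseChange f.left (GIT36.Quot.isPullback_whiskerRight_left T f).flip hf U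

include hf in
theorem surjective_of_app_iso [UniversallyClosed f.left] : Surjective f.left := by
  constructor
  intro y
  by_contra hy
  let U : Y.left.Opens := ⟨(Set.range f.left)ᶜ, (f.left.isClosedMap.isClosed_range).isOpen_compl⟩
  have hyU : y ∈ U := hy
  have hpre : f.left ⁻¹ᵁ U = ⊥ := by
    ext x
    exact ⟨fun h => h ⟨x, rfl⟩, fun h => h.elim⟩
  have : Subsingleton Γ(X.left, f.left ⁻¹ᵁ U) := by rw [hpre]; infer_instance
  have : Subsingleton Γ(Y.left, U) :=
    (ConcreteCategory.bijective_of_isIso (f.left.app U)).1.subsingleton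
  have hz := Subsingleton.elim (1 : Γ(Y.left, U)) 0
  have : (Y.left.presheaf.germ U y hyU) 1 = (Y.left.presheaf.germ U y hyU) 0 := by rw [hz]
  rw [map_one, map_zero] at this
  exact one_ne_zero this

include hf in
theorem exists_descend [IsProper f.left] {T : Over (Spec (CommRingCat.of k))} {φ : X ⊗ T ⟶ X} (hφ : Compat f φ) :
    ∃ ψ : Y ⊗ T ⟶ Y, φ ≫ f = (f ▷ T) ≫ ψ := by
  let p := (f ▷ T).left
  have hpb := GIT36.Quot.isPullback_whiskerRight_left T f
  have : Surjective f.left := surjective_of_app_iso f hf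
  have : IsProper p := MorphismProperty.of_isPullback hpb.flip (inferInstance : IsProper f.left)
  have : Surjective p := MorphismProperty.of_isPullback hpb.flip (inferInstance : Surjective f.left)
  have happ : ∀ U, IsIso (p.app U) := isIso_app_whiskerRight f hf T
  obtain ⟨g, hg⟩ := exists_desc p happ p.isClosedMap (φ ≫ f).left (fun x x' e => by
    obtain ⟨z, hz, hz'⟩ := Scheme.Pullback.exists_preimage_pullback x x' e
    let Q : Over (Spec (CommRingCat.of k)) := Over.mk (pullback.fst p p ≫ (X ⊗ T).hom)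
    let q₁ : Q ⟶ X ⊗ T := Over.homMk (pullback.fst p p) rfl
    let q₂ : Q ⟶ X ⊗ T := Over.homMk (pullback.snd p p) (by
      show pullback.snd p p ≫ _ = pullback.fst p p ≫ _
      rw [← Over.w (f ▷ T), ← Category.assoc, ← Category.assoc]
      exact congrArg (· ≫ _) pullback.condition.symm)
    have hq : q₁ ≫ (f ▷ T) = q₂ ≫ (f ▷ T) := Over.OverMorphism.ext pullback.condition
    have hq1 : (q₁ ≫ fst X T) ≫ f = (q₂ ≫ fst X T) ≫ f := by
      have := congrArg (· ≫ fst Y T) hq
      simpa using this
    have hq2 : q₁ ≫ snd X T = q₂ ≫ snd X T := by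
      have := congrArg (· ≫ snd Y T) hq
      simpa using this
    let r : Q ⟶ relSquare f := Over.homMk (pullback.lift (q₁ ≫ fst X T).left (q₂ ≫ fst X T).left
      (congrArg Over.Hom.left hq1)) (by
      show _ ≫ pullback.fst f.left f.left ≫ X.hom = Q.hom
      rw [pullback.lift_fst_assoc]
      exact Over.w (q₁ ≫ fst X T))
    have hr₁ : r ≫ relFst f = q₁ ≫ fst X T := Over.OverMorphism.ext (pullback.lift_fst _ _ _)
    have hr₂ : r ≫ relSnd f = q₂ ≫ fst X T := Over.OverMorphism.ext (pullback.lift_snd _ _ _)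
    have e₁ : lift r (q₁ ≫ snd X T) ≫ (relFst f ▷ T) = q₁ := by
      rw [lift_whiskerRight, hr₁, ← comp_lift, lift_fst_snd, Category.comp_id]
    have e₂ : lift r (q₁ ≫ snd X T) ≫ (relSnd f ▷ T) = q₂ := by
      rw [lift_whiskerRight, hr₂, hq2, ← comp_lift, lift_fst_snd, Category.comp_id]
    have hfin : q₁ ≫ φ ≫ f = q₂ ≫ φ ≫ f := by
      rw [← e₁, ← e₂, Category.assoc, Category.assoc]
      exact congrArg (_ ≫ ·) hφ
    have := congrArg (fun m : Q ⟶ Y => m.left z) hfin
    rw [← hz, ← hz']
    exact this)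
  refine ⟨Over.homMk g (hom_ext p happ ?_), Over.OverMorphism.ext hg.symm⟩
  rw [← Category.assoc, hg, Over.w]
  exact (Over.w (f ▷ T)).symm

include hf in
theorem whiskerRight_cancel [IsProper f.left] {T W : Over (Spec (CommRingCat.of k))} {g g' : Y ⊗ T ⟶ W}
    (e : (f ▷ T) ≫ g = (f ▷ T) ≫ g') : g = g' := by
  have hpb := GIT36.Quot.isPullback_whiskerRight_left T f
  have : Surjective f.left := surjective_of_app_iso f hf
  have : Surjective (f ▷ T).left := MorphismProperty.of_isPullback hpb.flip (inferInstance : Surjective f.left)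
  exact Over.OverMorphism.ext
    (hom_ext (f ▷ T).left (isIso_app_whiskerRight f hf T) (congrArg Over.Hom.left e))

include hf in
/-- A family descends to a family of automorphisms when it and its inverse are constant along the fibres. -/
theorem descends_iff [IsProper f.left] {G : Over (Spec (CommRingCat.of k))} [GrpObj G] (a : AlgGrp.Action G X)
    {T : Over (Spec (CommRingCat.of k))} (g : T ⟶ G)
    (h : Compat f (AutSch.famOf a g)) (h' : Compat f (AutSch.famOf a g⁻¹)) :
    ∃ ψ : Y ⊗ T ⟶ Y, AutSch.IsAutFamily ψ ∧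
      AutSch.endOf (AutSch.famOf a g) ≫ (f ▷ T) = (f ▷ T) ≫ AutSch.endOf ψ := by
  obtain ⟨ψ, hψ⟩ := exists_descend f hf h
  obtain ⟨ψ', hψ'⟩ := exists_descend f hf h'
  have key : ∀ (φ : X ⊗ T ⟶ X) (ψ : Y ⊗ T ⟶ Y), φ ≫ f = (f ▷ T) ≫ ψ →
      AutSch.endOf φ ≫ (f ▷ T) = (f ▷ T) ≫ AutSch.endOf ψ := fun φ ψ e => by
    refine CartesianMonoidalCategory.hom_ext _ _ ?_ ?_ <;> simp [e]
  refine ⟨ψ, ⟨AutSch.endOf ψ', whiskerRight_cancel f hf ?_, whiskerRight_cancel f hf ?_⟩, key _ _ hψ⟩
  · rw [← Category.assoc, ← key _ _ hψ, Category.assoc, ← key _ _ hψ', ← Category.assoc, endOf_famOf_comp,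
      inv_mul_cancel, endOf_famOf_one, Category.id_comp, Category.comp_id]
  · rw [← Category.assoc, ← key _ _ hψ', Category.assoc, ← key _ _ hψ, ← Category.assoc, endOf_famOf_comp,
      mul_inv_cancel, endOf_famOf_one, Category.id_comp, Category.comp_id]

omit hf in
/-- The closed subscheme of the group where the families and their inverses are constant along the fibres. -/
theorem exists_compatLocus [IsSeparated Y.hom] {G : Over (Spec (CommRingCat.of k))} [GrpObj G]
    (a : AlgGrp.Action G X) :
    ∃ (Z : Over (Spec (CommRingCat.of k))) (z : Z ⟶ G), IsClosedImmersion z.left ∧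
      ∀ (T : Over (Spec (CommRingCat.of k))) (t : T ⟶ G),
        (∃ u, u ≫ z = t) ↔ (Compat f (AutSch.famOf a t) ∧ Compat f (AutSch.famOf a t⁻¹)) := by
  let ev (i : relSquare f ⟶ X) (m : G ⟶ G) : G ⊗ relSquare f ⟶ Y :=
    lift (fst G _ ≫ m) (snd G _ ≫ i) ≫ a.act ≫ f
  have : IsSeparated (Y ⊗ Y).hom := by
    rw [← Over.w (fst Y Y)]
    have : IsSeparated (fst Y Y).left := inferInstanceAs (IsSeparated (pullback.fst Y.hom Y.hom))
    infer_instance
  obtain ⟨Z, z, hz, hmem⟩ := exists_agreeLocus (lift (ev (relFst f) (𝟙 G)) (ev (relFst f) ι[G]))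
    (lift (ev (relSnd f) (𝟙 G)) (ev (relSnd f) ι[G]))
  refine ⟨Z, z, hz, fun T t => (hmem T t).trans ?_⟩
  have hev : ∀ (i : relSquare f ⟶ X) (m : G ⟶ G), (t ▷ relSquare f) ≫ ev i m =
      (β_ T (relSquare f)).hom ≫ (i ▷ T) ≫ AutSch.famOf a (t ≫ m) ≫ f := fun i m => by
    simp [ev, AutSch.famOf, comp_lift_assoc, tensorHom_def]
  rw [comp_lift, comp_lift, hev, hev, hev, hev, Category.comp_id, GrpObj.inv_eq_inv, GrpObj.comp_inv,
    Category.comp_id]
  constructor
  · intro h
    have h1 := congrArg (· ≫ fst Y Y) h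
    have h2 := congrArg (· ≫ snd Y Y) h
    simp only [lift_fst, lift_snd] at h1 h2
    exact ⟨(cancel_epi _).1 h1, (cancel_epi _).1 h2⟩
  · rintro ⟨h1, h2⟩
    rw [show _ = _ from h1, show _ = _ from h2]

end Groth.Agent.AutFib57
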